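import Mathlib
import Cfsg.Agent.Lib.Helper50.FOT.Defs
import Cfsg.Agent.S0034
import Cfsg.Agent.S0035
import Cfsg.Agent.S0042

/-!
# FOT [FF]: a Frobenius complement in a finite group gives Frobenius data
-/

set_option autoImplicit false
open scoped Pointwise

namespace Cfsg.Agent.Lib.Helper94.FOT

open Cfsg.Agent.Lib.Helper50.FOT

universe u

theorem pkgFF : PkgFF.{u} := by
  intro X _ _ C hC
  obtain ⟨N, hN, hNn, hNc⟩ := Cfsg.Agent.S0035.result C hC
  obtain ⟨N', hN', -, hNil⟩ := Cfsg.Agent.S0042.result C hC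
  have hNN' : N' = N := SetLike.coe_injective (hN'.trans hN.symm)
  subst hNN'
  obtain ⟨hcard, hmod⟩ := Cfsg.Agent.S0034.result C hC
  have hNcard : Nat.card N' = C.index := by
    rw [← hcard]
    exact Nat.card_congr (Equiv.setCongr hN)
  have hdisj : ∀ x : X, x ∈ N' → x ∈ C → x = 1 := by
    intro x hx1 hx2
    have h := hNc.disjoint
    rw [Subgroup.disjoint_def] at h
    exact h hx1 hx2
  refine ⟨N', ?_⟩
  refine ⟨hNn, hNil, hNc, ?_, ?_, ?_, ?_, ?_⟩
  · -- coprime
    rw [hNcard]
    have h1 : C.index ≡ 1 [MOD Nat.card C] := hmod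
    have h2 := h1.gcd_eq
    rw [Nat.gcd_one_left] at h2
    exact h2
  · rw [hNcard]
    have h0 : C.index ≠ 0 := Subgroup.index_ne_zero_of_finite
    have h1 : C.index ≠ 1 := fun h => hC.2.1 (Subgroup.index_eq_one.mp h)
    omega
  · exact (Subgroup.one_lt_card_iff_ne_bot C).mpr hC.1
  · intro x
    by_cases hx : ∃ g : X, x ∈ MulAut.conj g • C
    · exact Or.inr hx
    · left
      have : x ∈ (N' : Set X) := by
        rw [hN]
        right
        intro g hg
        exact hx ⟨g, hg⟩
      exact this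
  · intro y hy hy1 x hx hxy
    by_contra hx1
    have hxC : x ∉ C := fun h => hx1 (hdisj x hx h)
    have h := hC.2.2 x hxC
    have hmem : y ∈ C ⊓ (MulAut.conj x • C) := by
      refine Subgroup.mem_inf.mpr ⟨hy, ?_⟩
      rw [Subgroup.mem_pointwise_smul_iff_inv_smul_mem]
      have : (MulAut.conj x)⁻¹ • y = y := by
        rw [← map_inv, MulAut.smul_def, MulAut.conj_apply]
        rw [inv_inv]
        calc x⁻¹ * y * x = x⁻¹ * (y * x) := by group
          _ = x⁻¹ * (x * y) := by rw [hxy]
          _ = y := by group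
      rw [this]
      exact hy
    rw [h] at hmem
    exact hy1 (Subgroup.mem_bot.mp hmem)

end Cfsg.Agent.Lib.Helper94.FOT
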