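import Mathlib
import Cfsg.Agent.Lib.Helper50.FOT.Defs

/-!
# FOT [SOLV]: a group with Frobenius data is solvable iff the complement is
-/

set_option autoImplicit false
open scoped Pointwise

namespace Cfsg.Agent.Lib.Helper94.FOT

open Cfsg.Agent.Lib.Helper50.FOT

universe u

theorem pkgSolv : PkgSolv.{u} := by
  intro X _ _ K C hF
  constructor
  · intro h
    exact Group.isSolvable_of_isSolvable_injective (f := C.subtype) C.subtype_injective
  · intro hC
    have := hF.normal
    have : Group.IsNilpotent K := hF.nilp
    have : Group.IsSolvable K := inferInstance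
    have hsurj : Function.Surjective ((QuotientGroup.mk' K).comp C.subtype) := by
      intro q
      obtain ⟨x, rfl⟩ := QuotientGroup.mk'_surjective K q
      obtain ⟨⟨k, c⟩, hkc⟩ := hF.compl.2 x
      refine ⟨c, ?_⟩
      have hkc' : (k : X) * (c : X) = x := hkc
      rw [← hkc']
      simp only [MonoidHom.coe_comp, Function.comp_apply, Subgroup.coe_subtype, map_mul]
      have : (QuotientGroup.mk' K) (k : X) = 1 := by
        rw [QuotientGroup.mk'_apply, QuotientGroup.eq_one_iff]
        exact k.2
      rw [this, one_mul]
    have : Group.IsSolvable (X ⧸ K) := Group.isSolvable_of_surjective hsurj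
    exact Group.isSolvable_of_ker_le_range K.subtype (QuotientGroup.mk' K) (by simp)

end Cfsg.Agent.Lib.Helper94.FOT
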